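import Groth.Agent.L19.LatticeExt.HomConst
import Groth.Agent.L28.Ext.Etale
import Groth.Prelude.Def_Red
import Mathlib.AlgebraicGeometry.Morphisms.Flat

/-!
# Twisted lattices: étale, and without homomorphisms from quasi-compact groups
-/

set_option autoImplicit false
set_option linter.style.haveILetI false
set_option backward.isDefEq.respectTransparency.types false
set_option maxSynthPendingDepth 3

universe u

open CategoryTheory CategoryTheory.Limits MonoidalCategory CartesianMonoidalCategory MonObj AlgebraicGeometry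

noncomputable section

namespace Groth.L19.LatticeExt

variable {S : Scheme.{u}}

/-- The group becomes a constant lattice after restriction to `S'`. -/
def IsLatticeOn (M : Over S) [GrpObj M] (S' : Scheme.{u}) (f : S' ⟶ S) : Prop :=
  ∃ (r : ℕ) (e : Red.bc f M ≅ TwC.const S' (Multiplicative (Fin r → ℤ))),
    TwC.IsConstGrp (Multiplicative (Fin r → ℤ)) (Red.bc f M) e

theorem torsionFree {r : ℕ} (z : Multiplicative (Fin r → ℤ)) (hz : IsOfFinOrder z) : z = 1 := by
  obtain ⟨n, hn, h⟩ := isOfFinOrder_iff_pow_eq_one.1 hz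
  refine Multiplicative.toAdd.injective (funext fun i => ?_)
  have := congrFun (congrArg Multiplicative.toAdd h) i
  rw [toAdd_pow, toAdd_one, Pi.smul_apply, Pi.zero_apply, nsmul_eq_mul] at this
  exact (mul_eq_zero.1 this).resolve_left (by exact_mod_cast hn.ne')

variable {M : Over S} [GrpObj M] (hM : TwC.Locally S TwC.Topology.fpqc (IsLatticeOn M))

include hM in
/-- A twisted lattice receives no homomorphism from a quasi-compact group. -/
theorem hom_eq_one {H : Over S} [GrpObj H] [QuasiCompact H.hom] (φ : H ⟶ M) [IsMonHom φ] : φ = 1 := by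
  obtain ⟨S', f, hf, hfs, -, hloc⟩ := hM
  choose U hU r e he using hloc
  haveI := hf
  let π : ∀ s', pullback H.hom ((U s').ι ≫ f) ⟶ H.left := fun s' => pullback.fst _ _
  haveI : Flat (Sigma.desc π) := IsZariskiLocalAtSource.sigmaDesc fun s' =>
    inferInstanceAs (Flat (pullback.fst H.hom ((U s').ι ≫ f)))
  haveI : Surjective (Sigma.desc π) := ⟨fun p => by
    obtain ⟨s', hs'⟩ := hfs.surj (H.hom p)
    obtain ⟨q, hq, -⟩ := Scheme.Pullback.exists_preimage_pullback (f := H.hom) (g := (U s').ι ≫ f) p ⟨s', hU s'⟩ hs'.symm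
    exact ⟨Sigma.ι (fun s' => pullback H.hom ((U s').ι ≫ f)) s' q, by rw [← Scheme.Hom.comp_apply, Sigma.ι_desc]; exact hq⟩⟩
  haveI := Flat.epi_of_flat_of_surjective (Sigma.desc π)
  refine Over.OverMorphism.ext ((cancel_epi (Sigma.desc π)).1 (Sigma.hom_ext _ _ fun s' => ?_))
  rw [Sigma.ι_desc_assoc, Sigma.ι_desc_assoc]
  haveI : QuasiCompact (Red.bc ((U s').ι ≫ f) H).hom :=
    inferInstanceAs (QuasiCompact (pullback.snd H.hom ((U s').ι ≫ f)))
  haveI : IsMonHom (1 : H ⟶ M) :=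
    ⟨by rw [MonObj.comp_one, Hom.one_def, toUnit_unique (toUnit _) (𝟙 _), Category.id_comp],
      by
        have h1 : ((1 : H ⟶ M) ⊗ₘ (1 : H ⟶ M)) = lift (1 : H ⊗ H ⟶ M) 1 := by
          apply CartesianMonoidalCategory.hom_ext <;> simp [MonObj.comp_one]
        rw [MonObj.comp_one, h1, ← Hom.mul_def, _root_.one_mul]⟩
  have key : ∀ (χ : H ⟶ M) [IsMonHom χ], ((Over.pullback ((U s').ι ≫ f)).map χ) = 1 := fun χ _ =>
    hom_to_const_eq_one torsionFree (e s') (he s') _
  have hk : ∀ (χ : H ⟶ M), π s' ≫ χ.left =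
      ((Over.pullback ((U s').ι ≫ f)).map χ).left ≫ pullback.fst M.hom ((U s').ι ≫ f) := fun χ =>
    (pullback.lift_fst _ _ _).symm
  rw [hk, hk, key φ, key 1]

include hM in
/-- A twisted lattice is étale. -/
theorem etale_hom : Etale M.hom := by
  obtain ⟨S', f, hf, hfs, hqc, hloc⟩ := hM
  haveI := hf
  choose U hU r e he using hloc
  refine (IsZariskiLocalAtTarget.iff_of_iSup_eq_top (P := @Etale) _ (iSup_affineOpens_eq_top S)).2 fun V => ?_
  haveI : IsAffine (V.1 : Scheme.{u}) := V.2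
  obtain ⟨W, hWc, hWV⟩ := hqc V.1 V.2
  have hex : ∀ w : W, ∃ A : S'.Opens, IsAffineOpen A ∧ w.1 ∈ A ∧ A ≤ W ⊓ U w.1 := fun w => by
    obtain ⟨_, ⟨A, hA, rfl⟩, hwA, hAW⟩ := S'.isBasis_affineOpens.exists_subset_of_mem_open
      (show w.1 ∈ W ⊓ U w.1 from ⟨w.2, hU w.1⟩) (W ⊓ U w.1).2
    exact ⟨A, hA, hwA, hAW⟩
  choose A hA hwA hAle using hex
  obtain ⟨t, ht⟩ := hWc.elim_finite_subcover (fun w => (A w : Set S')) (fun w => (A w).2)
    (fun w hw => Set.mem_iUnion.2 ⟨⟨w, hw⟩, hwA ⟨w, hw⟩⟩)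
  have hle : ∀ w : W, A w ≤ f ⁻¹ᵁ V.1 := fun w x hx => by
    show f x ∈ (V.1 : Set S)
    rw [← hWV]
    exact ⟨x, (hAle w hx).1, rfl⟩
  let c : ∀ w : t, (A w.1 : Scheme.{u}) ⟶ V.1 := fun w => f.resLE V.1 (A w.1) (hle w.1)
  haveI : ∀ w : t, IsAffine (A w.1 : Scheme.{u}) := fun w => hA w.1
  haveI : Flat (Sigma.desc c) := IsZariskiLocalAtSource.sigmaDesc fun w =>
    inferInstanceAs (Flat (f.resLE V.1 (A w.1) (hle w.1)))
  haveI : Surjective (Sigma.desc c) := ⟨fun x => by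
    have hx : (x.1 : S) ∈ f.base '' (W : Set S') := hWV.symm ▸ x.2
    obtain ⟨y, hy, hyx⟩ := hx
    obtain ⟨w, hw, hyA⟩ := Set.mem_iUnion₂.1 (ht hy)
    refine ⟨Sigma.ι (fun w : t => (A w.1 : Scheme.{u})) ⟨w, hw⟩ ⟨y, hyA⟩, V.1.ι.isOpenEmbedding.injective ?_⟩
    rw [← Scheme.Hom.comp_apply, ← Scheme.Hom.comp_apply, Sigma.ι_desc_assoc, Scheme.Hom.resLE_comp_ι]
    exact hyx⟩
  haveI : QuasiCompact (Sigma.desc c) := inferInstance
  refine MorphismProperty.of_isPullback_of_descendsAlong (P := @Etale) (Q := @Surjective ⊓ @Flat ⊓ @QuasiCompact)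
    (IsPullback.of_hasPullback (M.hom ∣_ V.1) (Sigma.desc c)).flip ⟨⟨inferInstance, inferInstance⟩, inferInstance⟩ ?_
  refine IsZariskiLocalAtTarget.of_openCover (sigmaOpenCover fun w : t => (A w.1 : Scheme.{u})) fun w => ?_
  have hsq := (IsPullback.of_hasPullback (pullback.snd (M.hom ∣_ V.1) (Sigma.desc c))
    (Sigma.ι (fun w : t => (A w.1 : Scheme.{u})) w)).paste_horiz
      (IsPullback.of_hasPullback (M.hom ∣_ V.1) (Sigma.desc c))
  have hsq' := hsq.paste_horiz (isPullback_morphismRestrict M.hom V.1).flip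
  have hfac : (Sigma.ι (fun w : t => (A w.1 : Scheme.{u})) w ≫ Sigma.desc c) ≫ V.1.ι =
      S'.homOfLE ((hAle w.1).trans inf_le_right) ≫ (U w.1.1).ι ≫ f := by
    rw [Sigma.ι_desc, Scheme.Hom.resLE_comp_ι, Scheme.homOfLE_ι_assoc]
  haveI : Etale (pullback.snd M.hom ((U w.1.1).ι ≫ f)) := by
    have h : (e w.1.1).hom.left ≫ (TwC.const (U w.1.1) (Multiplicative (Fin (r w.1.1) → ℤ))).hom =
        pullback.snd M.hom ((U w.1.1).ι ≫ f) := Over.w (e w.1.1).hom
    rw [← h]
    haveI : Etale (TwC.const (U w.1.1 : Scheme.{u}) (Multiplicative (Fin (r w.1.1) → ℤ))).hom :=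
      IsZariskiLocalAtSource.sigmaDesc fun _ => inferInstanceAs (Etale (𝟙 (U w.1.1 : Scheme.{u})))
    infer_instance
  have h2 : Etale (pullback.snd M.hom (S'.homOfLE ((hAle w.1).trans inf_le_right) ≫ (U w.1.1).ι ≫ f)) := by
    rw [← pullbackLeftPullbackSndIso_inv_snd_snd]
    infer_instance
  rw [← hfac] at h2
  exact (MorphismProperty.arrow_mk_iso_iff @Etale
    (Arrow.isoMk hsq'.isoPullback (Iso.refl _) ((IsPullback.isoPullback_hom_snd hsq').trans (Category.comp_id _).symm))).2 h2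

end Groth.L19.LatticeExt
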