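import Groth.Agent.L19.LatticeExt.Lattice
import Groth.Agent.L28.Ext.Split
import Groth.Agent.L02.NeutralOpen.Main
import Groth.Agent.L08.Borel.BaseChange
import Groth.Agent.L08.SubgroupObj

/-!
# Splitting extensions of groups with connected fibres by étale groups without quasi-compact subgroups
-/

set_option autoImplicit false
set_option linter.style.haveILetI false
set_option backward.isDefEq.respectTransparency.types false
set_option maxSynthPendingDepth 3

universe u

open CategoryTheory CategoryTheory.Limits MonoidalCategory CartesianMonoidalCategory MonObj AlgebraicGeometry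
open Groth.L25

noncomputable section

namespace Groth.L19.LatticeExt

variable {S : Scheme.{u}} {P E M : Over S} [GrpObj P] [GrpObj E] [GrpObj M]

/-- An open subgroup of a group with connected geometric fibres is everything. -/
theorem surjective_of_open_subgroup {N : Over S} [GrpObj N] [LocallyOfFiniteType P.hom] [GeometricallyConnected P.hom]
    (w : N ⟶ P) [IsMonHom w] [IsOpenImmersion w.left] : Surjective w.left := by
  refine ⟨fun p => ?_⟩
  let θ : Spec (CommRingCat.of (S.residueField (P.hom p))) ⟶ S := S.fromSpecResidueField (P.hom p)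
  letI : GrpObj (Red.bc θ P) := Red.grpObj_bc θ P
  letI : GrpObj (Red.bc θ N) := Red.grpObj_bc θ N
  haveI : ConnectedSpace (Red.bc θ P).left :=
    GeometricallyConnected.geometrically_connectedSpace (f := P.hom) θ _ _ (IsPullback.of_hasPullback P.hom θ)
  haveI : LocallyOfFiniteType (Red.bc θ P).hom := inferInstanceAs (LocallyOfFiniteType (pullback.snd P.hom θ))
  haveI : IsLocallyNoetherian (Red.bc θ P).left := LocallyOfFiniteType.isLocallyNoetherian (Red.bc θ P).hom
  haveI : IrreducibleSpace ↥(Red.bc θ P).left := Component.irreducibleSpace _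
  haveI : GeometricallyIrreducible (Red.bc θ P).hom := Component.geometricallyIrreducible _
  have hsq := Groth.L08.Borel.isPullback_bc_map' θ w
  haveI : IsOpenImmersion ((Over.pullback θ).map w).left :=
    MorphismProperty.of_isPullback (P := @IsOpenImmersion) hsq.flip ‹_›
  have hsurj := Groth.L28.Ext.surjective_of_isOpenImmersion (N := Red.bc θ N) (P := Red.bc θ P) ((Over.pullback θ).map w)
  obtain ⟨q, hq, -⟩ := Scheme.Pullback.exists_preimage_pullback (f := P.hom) (g := θ) p
    (IsLocalRing.closedPoint _) (Scheme.fromSpecResidueField_apply _ _).symm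
  obtain ⟨y, hy⟩ := hsurj.surj q
  refine ⟨pullback.fst N.hom θ y, ?_⟩
  rw [← Scheme.Hom.comp_apply, ← hsq.w, Scheme.Hom.comp_apply]
  exact (congrArg (pullback.fst P.hom θ) hy).trans hq

variable (u : M ⟶ E) (v : E ⟶ P)

/-- An extension of a smooth group with connected geometric fibres by an étale group receiving no homomorphism from
quasi-compact groups is split. -/
theorem exists_splitting [IsCommMonObj E] [Smooth P.hom] [QuasiCompact P.hom] [QuasiSeparated P.hom]
    [GeometricallyConnected P.hom] [Etale M.hom] (hex : NonAbH1.IsExactSeq Scheme.fppfPrecoverage u v)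
    (hone : ∀ {H : Over S} [GrpObj H] [QuasiCompact H.hom] (φ : H ⟶ M) [IsMonHom φ], φ = 1) :
    ∃ s : P ⟶ E, IsMonHom s ∧ s ≫ v = 𝟙 P := by
  haveI := hex.1
  haveI := hex.2.1
  haveI : Mono u := ⟨fun _ _ h => Groth.L28.Ext.comp_u_injective hex h⟩
  obtain ⟨hve, -⟩ := Groth.L28.Ext.etale_surjective_of_exact hex ‹_›
  haveI := hve
  haveI : Smooth E.hom := by rw [← Over.w v]; infer_instance
  haveI : Smooth ((⊤ : E.left.Opens).ι ≫ E.hom) := inferInstance
  obtain ⟨V, hV, hVqc, -⟩ := Groth.L02.NeutralOpen.of_smooth_unit E ⊤ fun _ => trivial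
  obtain ⟨gN, hj⟩ := Groth.L02.NeutralOpen.exists_subgroup E V hV
  let N : Over S := Over.mk (V.ι ≫ E.hom)
  let j : N ⟶ E := Over.homMk V.ι rfl
  letI : GrpObj N := gN
  haveI : IsMonHom j := hj
  haveI : Mono j.left := inferInstanceAs (Mono V.ι)
  haveI : Mono j := Over.mono_of_mono_left _
  let w : N ⟶ P := j ≫ v
  haveI : IsMonHom w := inferInstanceAs (IsMonHom (j ≫ v))
  haveI : Etale w.left := inferInstanceAs (Etale (V.ι ≫ v.left))
  haveI : QuasiCompact w.left := by
    haveI : QuasiCompact (w.left ≫ P.hom) := by rw [Over.w w]; exact hVqc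
    exact QuasiCompact.of_comp w.left P.hom
  -- the kernel
  have hη : (η[P].left : S ⟶ P.left) ≫ P.hom = 𝟙 S := Over.w η[P]
  let K : Over S := Over.mk (pullback.snd w.left (η[P].left : S ⟶ P.left))
  let k : K ⟶ N := Over.homMk (pullback.fst w.left (η[P].left : S ⟶ P.left)) (by
    rw [← Over.w w]
    show pullback.fst _ _ ≫ w.left ≫ P.hom = pullback.snd _ _
    rw [pullback.condition_assoc, hη, Category.comp_id])
  haveI : Mono (η[P].left : S ⟶ P.left) := ⟨fun a b h => by simpa [hη] using congrArg (· ≫ P.hom) h⟩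
  haveI : Mono k.left := inferInstanceAs (Mono (pullback.fst w.left (η[P].left : S ⟶ P.left)))
  haveI : Mono k := Over.mono_of_mono_left _
  haveI : QuasiCompact K.hom := inferInstanceAs (QuasiCompact (pullback.snd w.left (η[P].left : S ⟶ P.left)))
  have hone' : ∀ {T : Over S}, (1 : T ⟶ P).left = T.hom ≫ η[P].left := fun {T} => by
    rw [Hom.one_def, Over.comp_left]
    rfl
  have hfac : ∀ {T : Over S} (x : T ⟶ N), x ≫ w = 1 → ∃ l : T ⟶ K, l ≫ k = x := fun {T} x hx =>
    ⟨Over.homMk (pullback.lift x.left T.hom (((congrArg CommaMorphism.left hx)).trans hone')) (pullback.lift_snd _ _ _),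
      Over.OverMorphism.ext (pullback.lift_fst _ _ _)⟩
  have hkw : k ≫ w = 1 := Over.OverMorphism.ext (pullback.condition.trans (hone' (T := K)).symm)
  obtain ⟨gK, hk⟩ := Groth.L08.exists_grpObj_of_mono k (hfac η[N] (by
      rw [IsMonHom.one_hom, Hom.one_def, toUnit_unique (toUnit _) (𝟙 _), Category.id_comp]))
    (hfac ((fst K K ≫ k) * (snd K K ≫ k)) (by
      rw [MonObj.mul_comp, Category.assoc, Category.assoc, hkw, MonObj.comp_one, MonObj.comp_one, _root_.one_mul]))
    (hfac k⁻¹ (by rw [GrpObj.inv_comp, hkw, inv_one]))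
  letI := gK
  haveI := hk
  obtain ⟨g, hg⟩ := Groth.L28.Ext.exists_of_comp_eq_one hex (x := k ≫ j) (by rw [Category.assoc]; exact hkw)
  haveI : IsMonHom g :=
    ⟨by rw [← cancel_mono u, Category.assoc, hg, IsMonHom.one_hom_assoc, IsMonHom.one_hom, IsMonHom.one_hom],
      by rw [← cancel_mono u, Category.assoc, Category.assoc, hg, IsMonHom.mul_hom, IsMonHom.mul_hom,
        tensorHom_comp_tensorHom_assoc, hg]⟩
  have hkj : k ≫ j = 1 := by rw [← hg, hone g, MonObj.one_comp]
  haveI : Mono w := ⟨fun {T} a b hab => by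
    obtain ⟨l, hl⟩ := hfac (a⁻¹ * b) (by rw [MonObj.mul_comp, GrpObj.inv_comp, hab, inv_mul_cancel])
    have h1 : (a⁻¹ * b) ≫ j = 1 := by rw [← hl, Category.assoc, hkj, MonObj.comp_one]
    rw [MonObj.mul_comp, GrpObj.inv_comp, inv_mul_eq_one] at h1
    exact (cancel_mono j).1 h1⟩
  haveI : Mono w.left := inferInstanceAs (Mono ((Over.forget S).map w))
  haveI : IsOpenImmersion w.left := IsOpenImmersion.of_flat_of_mono w.left
  haveI : Surjective w.left := surjective_of_open_subgroup w
  haveI : IsIso w.left := IsOpenImmersion.isIso w.left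
  haveI : IsIso ((Over.forget S).map w) := ‹IsIso w.left›
  haveI : IsIso w := isIso_of_reflects_iso w (Over.forget S)
  haveI : IsMonHom (inv w) :=
    ⟨by simp [IsMonHom.one_hom (f := w)], by
      rw [IsIso.comp_inv_eq, Category.assoc, IsMonHom.mul_hom, tensorHom_comp_tensorHom_assoc, IsIso.inv_hom_id,
        id_tensorHom_id, Category.id_comp]⟩
  exact ⟨inv w ≫ j, inferInstance, by rw [Category.assoc]; exact IsIso.inv_hom_id w⟩

end Groth.L19.LatticeExt
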